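import Cfsg.Agent.H510.EPX.PowTwo
import Cfsg.Agent.H595.EPX.U33

/-!
# S5745, CrossK: `U₃(3) ^ 2` (helper510)

`u33_sq` : no extremely primitive stabiliser with socle `U₃(3) ^ 2` in a group whose classes of elements of order `3`
(`7`) have at least `2 ^ 39` (`2 ^ 41`) elements. For `E₆(2)`, `²E₆(2)`.
-/

set_option autoImplicit false

namespace Cfsg.Agent.H510.EPX

open Subgroup Cfsg Cfsg.Agent.H284 Cfsg.Agent.H209.EPX Cfsg.Agent.H742.EX Cfsg.Agent.H833.EPX

theorem card_pow_le {L : Type*} [Group L] [Finite L] {r : ℕ} (hr : r.Prime) :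
    Nat.card {t : L // t ^ r = 1} ≤ Nat.card {t : L // orderOf t = r} + 1 := by
  classical
  rw [← Finite.card_option]
  let f : {t : L // t ^ r = 1} → Option {t : L // orderOf t = r} := fun t =>
    if h : orderOf t.1 = r then some ⟨t.1, h⟩ else none
  refine Nat.card_le_card_of_injective f fun x y hxy => ?_
  have h1 : ∀ t : {t : L // t ^ r = 1}, orderOf t.1 ≠ r → t.1 = 1 := by
    intro t ht
    rcases (Nat.dvd_prime hr).1 (orderOf_dvd_of_pow_eq_one t.2) with h | h
    · exact orderOf_eq_one_iff.1 h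
    · exact absurd h ht
  apply Subtype.ext
  by_cases hx : orderOf x.1 = r
  · by_cases hy : orderOf y.1 = r
    · simp only [f, dif_pos hx, dif_pos hy, Option.some.injEq, Subtype.mk.injEq] at hxy
      exact hxy
    · simp [f, dif_pos hx, dif_neg hy] at hxy
  · by_cases hy : orderOf y.1 = r
    · simp [f, dif_neg hx, dif_pos hy] at hxy
    · rw [h1 x hx, h1 y hy]

open Cfsg in
theorem card_out_mul {S : Type*} [Group S] [Finite S] (hs : IsSimpleGroup S) (hna : ∃ a b : S, a * b ≠ b * a) :
    Nat.card (Out S) * Nat.card S = Nat.card (MulAut S) := by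
  have hinj : Function.Injective (MulAut.conj : S →* MulAut S) := by
    rw [← MonoidHom.ker_eq_bot_iff]
    rcases (MonoidHom.normal_ker (MulAut.conj : S →* MulAut S)).eq_bot_or_eq_top with h | h
    · exact h
    · exfalso
      obtain ⟨a, b, hab⟩ := hna
      have h1 : a ∈ (MulAut.conj : S →* MulAut S).ker := h ▸ Subgroup.mem_top a
      have h2 := DFunLike.congr_fun (MonoidHom.mem_ker.1 h1) b
      rw [MulAut.conj_apply, MulAut.one_apply, mul_inv_eq_iff_eq_mul] at h2
      exact hab h2
  have h1 : Nat.card (Inn S) = Nat.card S := (Nat.card_congr (MonoidHom.ofInjective hinj).toEquiv).symm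
  rw [← h1, mul_comm]
  exact (Subgroup.card_mul_index (Inn S))

/-- **`U₃(3) ^ 2`** -/
theorem u33_sq {G : Type*} [Group G] [Finite G] {H N : Subgroup G} {T : Type} [Group T] {e : N ≃* (Fin 2 → T)}
    (h : EPS H N e)
    (hM : ∀ g ∉ H, ∃ r ∈ (Nat.card H).primeFactors.erase 2, r ∣ Nat.card (H ⊓ cj g H : Subgroup G))
    {F : Type*} [Field F] [Fintype F] (hF : Fintype.card F = 9) (i : T ≃* Cfsg.PSU 3 F 3)
    (c3 : ∀ x : G, orderOf x = 3 → 2 ^ 39 ≤ cG x) (c7 : ∀ x : G, orderOf x = 7 → 2 ^ 41 ≤ cG x) : False := by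
  have hfin : Finite T := finite_T h
  have h7p : Fact (Nat.Prime 7) := ⟨by norm_num⟩
  have hU := Cfsg.Agent.H595.EPX.uf_psu hF
  have hT := hU.congr i.symm
  have hA : Nat.card (MulAut T) = 12096 := by
    rw [Nat.card_congr (MulAut.congr i).toEquiv]
    exact Cfsg.Agent.H933.HT.u33_aut (by rw [hF]; norm_num)
  have hO : Nat.card (Out T) = 2 := by
    have h1 := card_out_mul h.simple h.nab
    rw [hA, hT.card] at h1
    omega
  have hodd : ∀ r : ℕ, r.Prime → r ≠ 2 → ¬ r ∣ Nat.card (Out T) := by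
    intro r hr hr2 hd
    rw [hO] at hd
    exact hr2 ((Nat.prime_dvd_prime_iff_eq hr Nat.prime_two).1 hd)
  have hmem : ∀ r ∈ ({3, 7} : Finset ℕ), r = 3 ∨ r = 7 := by
    intro r hr
    simpa using hr
  have hidx : 100 ≤ H.index := by
    refine le_index h (s := 3) Nat.prime_three (by rw [hT.card]; norm_num) c3 ?_
    rw [hA]
    decide
  refine row_sq h hM {3, 7} ?_ ?_ ?_ (fun r => if r = 3 then 729 else 1729)
    (fun r => if r = 3 then 2 ^ 39 else 2 ^ 41) ?_ ?_ ?_ 100 (by norm_num) hidx ?_
  · intro r hr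
    rcases hmem r hr with rfl | rfl
    · exact Nat.prime_three
    · exact h7p.out
  · intro r hr
    rcases hmem r hr with rfl | rfl <;> norm_num
  · intro r hr hr2 hd
    rw [hA] at hd
    have h1 : (12096 : ℕ) = 2 ^ 6 * 3 ^ 3 * 7 := by norm_num
    rw [h1] at hd
    simp only [Finset.mem_insert, Finset.mem_singleton]
    rcases (Nat.Prime.dvd_mul hr).1 hd with hd | hd
    · rcases (Nat.Prime.dvd_mul hr).1 hd with hd | hd
      · exact absurd ((Nat.prime_dvd_prime_iff_eq hr Nat.prime_two).1 (hr.dvd_of_dvd_pow hd)) hr2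
      · exact Or.inl ((Nat.prime_dvd_prime_iff_eq hr Nat.prime_three).1 (hr.dvd_of_dvd_pow hd))
    · exact Or.inr ((Nat.prime_dvd_prime_iff_eq hr h7p.out).1 hd)
  · intro r hr
    rcases hmem r hr with rfl | rfl
    · simp only [if_pos]
      refine (card_aut_le h.simple h.nab Nat.prime_three (hodd 3 Nat.prime_three (by norm_num))).trans ?_
      have h1 := card_pow_le (L := T) Nat.prime_three
      have h2 := hT.c3
      omega
    · simp only [if_neg (show ¬ (7 : ℕ) = 3 by norm_num)]
      refine (card_aut_le h.simple h.nab h7p.out (hodd 7 h7p.out (by norm_num))).trans ?_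
      have h1 := card_pow_le (L := T) h7p.out
      have h2 := (Cfsg.Agent.H595.EPX.seven hT.card).1
      omega
  · intro r _
    split_ifs <;> positivity
  · intro r hr
    rcases hmem r hr with rfl | rfl
    · simpa using c3
    · simpa using c7
  · rw [Finset.sum_insert (by norm_num), Finset.sum_singleton]
    norm_num

end Cfsg.Agent.H510.EPX
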